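import Groth.Agent.H61.SplitAlg

/-!
# The staircase monomial basis of the universal splitting algebra
-/

universe u v

open Polynomial

namespace Groth.Agent.Lib.SymBasis

open Groth.Agent.H61.SplitAlg

variable {R : Type u} [CommRing R]

set_option maxHeartbeats 800000 in
theorem exists_ringEquiv_explicit [Nontrivial R] {r : ℕ} (c : Fin (r + 1) → R) :
    ∃ (d : Fin r → AdjoinRoot (pol c))
      (e : (MvPolynomial (Fin r) (AdjoinRoot (pol c)) ⧸ ideal d) ≃+*
        (MvPolynomial (Fin (r + 1)) R ⧸ ideal c)),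
      (∀ x : R, e (Ideal.Quotient.mk _ (MvPolynomial.C (AdjoinRoot.of (pol c) x))) =
        Ideal.Quotient.mk _ (MvPolynomial.C x)) ∧
      e (Ideal.Quotient.mk _ (MvPolynomial.C (AdjoinRoot.root (pol c)))) =
        Ideal.Quotient.mk _ (MvPolynomial.X 0) ∧
      ∀ i, e (Ideal.Quotient.mk _ (MvPolynomial.X i)) = Ideal.Quotient.mk _ (MvPolynomial.X i.succ) := by
  let S := AdjoinRoot (pol c)
  let α : S := AdjoinRoot.root (pol c)
  have : Nontrivial S := nontrivial_of_ne _ _ ((AdjoinRoot.powerBasis' (pol_monic c)).basis.ne_zero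
    ⟨0, by simp [pol_natDegree]⟩)
  let P : S[X] := (pol c).map (AdjoinRoot.of (pol c))
  let Q : S[X] := P /ₘ (X - C α)
  have hPQ : (X - C α) * Q = P := mul_divByMonic_eq_iff_isRoot.mpr (AdjoinRoot.isRoot_root _)
  have hQ : Q.Monic := Monic.of_mul_monic_left (monic_X_sub_C α) (hPQ ▸ (pol_monic c).map _)
  have hQd : Q.natDegree = r := by
    have := congrArg natDegree hPQ
    rw [(monic_X_sub_C α).natDegree_mul hQ, natDegree_X_sub_C, (pol_monic c).natDegree_map,
      pol_natDegree] at this
    omega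
  let d : Fin r → S := fun j => Q.coeff j
  have hd : pol d = Q := by
    ext j
    rcases lt_or_ge j r with hj | hj
    · exact coeff_pol_lt d ⟨j, hj⟩
    · rw [coeff_pol_ge d hj]
      split_ifs with h
      · rw [h]
        have := hQ.coeff_natDegree
        rw [hQd] at this
        exact this.symm
      · exact (coeff_eq_zero_of_natDegree_lt (by omega)).symm
  refine ⟨d, ?_⟩
  -- the quotient maps
  let p : MvPolynomial (Fin (r + 1)) R →+* _ := Ideal.Quotient.mk (ideal c)
  let q : MvPolynomial (Fin r) S →+* _ := Ideal.Quotient.mk (ideal d)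
  let u : Fin (r + 1) → (MvPolynomial (Fin (r + 1)) R ⧸ ideal c) := fun i => p (MvPolynomial.X i)
  have hu : ∏ i, (X - C (u i)) = (pol c).map (p.comp MvPolynomial.C) :=
    (ideal_le_ker_iff c p).mp (le_of_eq Ideal.mk_ker.symm)
  have hq : ∏ i, (X - C (q (MvPolynomial.X i))) = (pol d).map (q.comp MvPolynomial.C) :=
    (ideal_le_ker_iff d q).mp (le_of_eq Ideal.mk_ker.symm)
  -- forward
  let F0 : MvPolynomial (Fin (r + 1)) R →+* (MvPolynomial (Fin r) S ⧸ ideal d) :=
    MvPolynomial.eval₂Hom ((q.comp MvPolynomial.C).comp (AdjoinRoot.of (pol c)))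
      (Fin.cons (q (MvPolynomial.C α)) fun i => q (MvPolynomial.X i))
  have hF0 : ideal c ≤ RingHom.ker F0 := by
    rw [ideal_le_ker_iff, Fin.prod_univ_succ]
    simp only [F0, MvPolynomial.eval₂Hom_X', Fin.cons_zero, Fin.cons_succ]
    rw [hq, hd, show F0.comp MvPolynomial.C =
      (q.comp MvPolynomial.C).comp (AdjoinRoot.of (pol c)) from RingHom.ext fun x => by simp [F0],
      ← Polynomial.map_map (AdjoinRoot.of (pol c)) (q.comp MvPolynomial.C)]
    show _ = P.map (q.comp MvPolynomial.C)
    rw [← hPQ, Polynomial.map_mul, Polynomial.map_sub, map_X, map_C]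
    rfl
  let F := Ideal.Quotient.lift (ideal c) F0 fun x hx => hF0 hx
  -- backward
  have hroot : (pol c).eval₂ (p.comp MvPolynomial.C) (u 0) = 0 := by
    rw [eval₂_eq_eval_map, ← hu, eval_prod]
    exact Finset.prod_eq_zero (Finset.mem_univ 0) (by simp)
  let g : S →+* (MvPolynomial (Fin (r + 1)) R ⧸ ideal c) :=
    AdjoinRoot.lift (p.comp MvPolynomial.C) (u 0) hroot
  have hg : ∏ i : Fin r, (X - C (u i.succ)) = (pol d).map g := by
    apply (monic_X_sub_C (u 0)).isRegular.left
    show (X - C (u 0)) * _ = (X - C (u 0)) * _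
    rw [← Fin.prod_univ_succ (f := fun i => X - C (u i)), hu, hd,
      show (X - C (u 0)) * Q.map g = P.map g by
        rw [← hPQ, Polynomial.map_mul, Polynomial.map_sub, map_X, map_C,
          AdjoinRoot.lift_root], Polynomial.map_map]
    congr 1
    exact RingHom.ext fun x => (AdjoinRoot.lift_of hroot).symm
  let G0 : MvPolynomial (Fin r) S →+* (MvPolynomial (Fin (r + 1)) R ⧸ ideal c) :=
    MvPolynomial.eval₂Hom g fun i => u i.succ
  have hG0 : ideal d ≤ RingHom.ker G0 := by
    rw [ideal_le_ker_iff, show G0.comp MvPolynomial.C = g from RingHom.ext fun x => by simp [G0]]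
    simp only [G0, MvPolynomial.eval₂Hom_X']
    exact hg
  let G := Ideal.Quotient.lift (ideal d) G0 fun x hx => hG0 hx
  have gof : ∀ x, g (AdjoinRoot.of (pol c) x) = p (MvPolynomial.C x) :=
    fun x => AdjoinRoot.lift_of hroot
  have groot : g α = p (MvPolynomial.X 0) := AdjoinRoot.lift_root hroot
  have Gq : ∀ y, G (q y) = G0 y := fun y => Ideal.Quotient.lift_mk _ _ _
  have Fp : ∀ y, F (p y) = F0 y := fun y => Ideal.Quotient.lift_mk _ _ _
  have G0C : ∀ y, G0 (MvPolynomial.C y) = g y := fun y => MvPolynomial.eval₂Hom_C _ _ _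
  have gC : ∀ x, G (q (MvPolynomial.C (AdjoinRoot.of (pol c) x))) = p (MvPolynomial.C x) := fun x => by
    rw [Gq, G0C, gof]
  have h1 : F.comp G = RingHom.id _ := by
    refine Ideal.Quotient.ringHom_ext (MvPolynomial.ringHom_ext (fun s => ?_) fun i => ?_)
    · show F (G (q (MvPolynomial.C s))) = q (MvPolynomial.C s)
      rw [Gq, G0C]
      induction s using AdjoinRoot.induction_on with
      | ih x =>
        have key : (F.comp g).comp (AdjoinRoot.mk (pol c)) =
            (q.comp MvPolynomial.C).comp (AdjoinRoot.mk (pol c)) := by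
          refine Polynomial.ringHom_ext (fun a => ?_) ?_
          · show F (g (AdjoinRoot.of (pol c) a)) = q (MvPolynomial.C (AdjoinRoot.of (pol c) a))
            rw [gof, Fp]
            exact MvPolynomial.eval₂Hom_C _ _ _
          · show F (g α) = q (MvPolynomial.C α)
            rw [groot, Fp]
            exact (MvPolynomial.eval₂Hom_X' _ _ _).trans (Fin.cons_zero _ _)
        exact RingHom.congr_fun key x
    · show F (G (q (MvPolynomial.X i))) = q (MvPolynomial.X i)
      rw [Gq, show G0 (MvPolynomial.X i) = p (MvPolynomial.X i.succ) from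
        MvPolynomial.eval₂Hom_X' _ _ _, Fp]
      exact (MvPolynomial.eval₂Hom_X' _ _ _).trans (Fin.cons_succ _ _ _)
  have h2 : G.comp F = RingHom.id _ := by
    refine Ideal.Quotient.ringHom_ext (MvPolynomial.ringHom_ext (fun s => ?_) fun i => ?_)
    · show G (F (p (MvPolynomial.C s))) = p (MvPolynomial.C s)
      rw [Fp, show F0 (MvPolynomial.C s) = q (MvPolynomial.C (AdjoinRoot.of (pol c) s)) from
        MvPolynomial.eval₂Hom_C _ _ _, gC]
    · show G (F (p (MvPolynomial.X i))) = p (MvPolynomial.X i)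
      rw [Fp, show F0 (MvPolynomial.X i) = _ from MvPolynomial.eval₂Hom_X' _ _ _]
      refine Fin.cases ?_ (fun j => ?_) i
      · rw [Fin.cons_zero, Gq, G0C, groot]
      · rw [Fin.cons_succ, Gq]
        exact MvPolynomial.eval₂Hom_X' _ _ _
  exact ⟨RingEquiv.ofRingHom G F h2 h1, gC, ((Gq _).trans (G0C _)).trans groot,
    fun i => (Gq _).trans (MvPolynomial.eval₂Hom_X' _ _ _)⟩


/-- A staircase exponent vector is a first exponent and a smaller staircase vector. -/
def stairEquiv (r : ℕ) :
    (Fin (r + 1) × (Π i : Fin r, Fin (r - (i : ℕ)))) ≃ (Π i : Fin (r + 1), Fin (r + 1 - (i : ℕ))) where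
  toFun p := Fin.cons (α := fun i : Fin (r + 1) => Fin (r + 1 - (i : ℕ))) p.1
    (fun i => Fin.cast (by simp) (p.2 i))
  invFun d := (d 0, fun i => Fin.cast (by simp) (d i.succ))
  left_inv p := rfl
  right_inv d := by
    funext i
    refine Fin.cases ?_ (fun j => ?_) i <;> rfl

theorem stair_basis : ∀ {R : Type u} [CommRing R] (r : ℕ) (c : Fin r → R),
    ∃ b : Module.Basis (Π i : Fin r, Fin (r - (i : ℕ))) R (MvPolynomial (Fin r) R ⧸ ideal c),
      ∀ d, b d = Ideal.Quotient.mk _ (∏ i, MvPolynomial.X i ^ (d i : ℕ)) := by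
  intro R _ r
  induction r generalizing R with
  | zero =>
    intro c
    have hI : ideal c = ⊥ := by simp [ideal, Set.range_eq_empty]
    let e : (MvPolynomial (Fin 0) R ⧸ ideal c) ≃ₐ[R] R :=
      (Ideal.quotientEquivAlgOfEq R hI).trans ((AlgEquiv.quotientBot R _).trans
        (MvPolynomial.isEmptyAlgEquiv R (Fin 0)))
    refine ⟨(Module.Basis.singleton _ R).map e.symm.toLinearEquiv, fun d => ?_⟩
    rw [Finset.univ_eq_empty, Finset.prod_empty, map_one]
    refine (Module.Basis.map_apply _ _ _).trans ?_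
    rw [Module.Basis.singleton_apply]
    exact map_one e.symm
  | succ r ih =>
    intro c
    rcases subsingleton_or_nontrivial R with hR | hR
    · have := Module.subsingleton R (MvPolynomial (Fin (r + 1)) R ⧸ ideal c)
      exact ⟨Module.Basis.ofRepr
        { toFun := fun _ => 0, invFun := fun _ => 0, map_add' := fun _ _ => by simp,
          map_smul' := fun _ _ => by simp, left_inv := fun _ => Subsingleton.elim _ _,
          right_inv := fun _ => Subsingleton.elim _ _ }, fun _ => Subsingleton.elim _ _⟩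
    · obtain ⟨d, e, he, he0, hes⟩ := exists_ringEquiv_explicit c
      obtain ⟨b2, hb2⟩ := ih d
      let b1 := (AdjoinRoot.powerBasis' (pol_monic c)).basis.reindex
        (finCongr (show (pol c).natDegree = r + 1 from pol_natDegree c))
      let b := b1.smulTower b2
      let eA : (MvPolynomial (Fin r) (AdjoinRoot (pol c)) ⧸ ideal d) ≃ₐ[R]
          (MvPolynomial (Fin (r + 1)) R ⧸ ideal c) := AlgEquiv.ofRingEquiv (f := e) he
      refine ⟨(b.map eA.toLinearEquiv).reindex (stairEquiv r), fun k => ?_⟩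
      obtain ⟨⟨k0, k'⟩, rfl⟩ := (stairEquiv r).surjective k
      rw [Module.Basis.reindex_apply, Equiv.symm_apply_apply, Module.Basis.map_apply,
        Fin.prod_univ_succ, map_mul, map_pow, map_prod]
      show e (b (k0, k')) = _
      rw [Module.Basis.smulTower_apply, hb2, Module.Basis.reindex_apply, PowerBasis.basis_eq_pow]
      refine ((congrArg e (Algebra.smul_def _ _)).trans (map_mul e _ _)).trans ?_
      congr 1
      · have : algebraMap (AdjoinRoot (pol c)) (MvPolynomial (Fin r) (AdjoinRoot (pol c)) ⧸ ideal d)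
            ((AdjoinRoot.powerBasis' (pol_monic c)).gen ^ (k0 : ℕ)) =
            (Ideal.Quotient.mk (ideal d) (MvPolynomial.C (AdjoinRoot.root (pol c)))) ^ (k0 : ℕ) := by
          rw [map_pow, AdjoinRoot.powerBasis'_gen]
          rfl
        refine (congrArg e this).trans ?_
        rw [map_pow, he0]
        rfl
      · rw [map_prod, map_prod]
        refine Finset.prod_congr rfl fun i _ => ?_
        rw [map_pow, map_pow, hes, map_pow]
        rfl

/-- The staircase monomials form a basis of `R[t]/(e_i(t) - a_i)`. -/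
theorem stair_basis_esymm {R : Type u} [CommRing R] (r : ℕ) (a : Fin r → R) :
    ∃ b : Module.Basis (Π i : Fin r, Fin (r - (i : ℕ))) R (MvPolynomial (Fin r) R ⧸ Ideal.span
      (Set.range fun i : Fin r => MvPolynomial.esymm (Fin r) R ((i : ℕ) + 1) - MvPolynomial.C (a i))),
      ∀ d, b d = Ideal.Quotient.mk _ (∏ i, MvPolynomial.X i ^ (d i : ℕ)) := by
  classical
  let c : Fin r → R := fun j => (-1) ^ (r - (j : ℕ)) * a j.rev
  let gen : Fin r → MvPolynomial (Fin r) R := fun i =>
    MvPolynomial.esymm (Fin r) R ((i : ℕ) + 1) - MvPolynomial.C (a i)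
  have hgen : ∀ j : Fin r,
      (Groth.Agent.H61.SplitAlg.prodX R r).coeff (j : ℕ) - MvPolynomial.C (c j) =
        MvPolynomial.C ((-1) ^ (r - (j : ℕ))) * gen j.rev := by
    intro j
    have hcoeff : (Groth.Agent.H61.SplitAlg.prodX R r).coeff (j : ℕ) =
        (-1) ^ (r - (j : ℕ)) * MvPolynomial.esymm (Fin r) R (r - (j : ℕ)) := by
      rw [Groth.Agent.H61.SplitAlg.prodX, Finset.prod_eq_multiset_prod,
        show (Finset.univ.val.map fun i : Fin r => Polynomial.X - Polynomial.C (MvPolynomial.X (R := R) i)) =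
          (Finset.univ.val.map fun i : Fin r => MvPolynomial.X (R := R) i).map
            (fun t => Polynomial.X - Polynomial.C t) from by rw [Multiset.map_map]; rfl,
        Multiset.prod_X_sub_C_coeff _ (by simp [j.isLt.le]), MvPolynomial.esymm_eq_multiset_esymm]
      simp
    have hrev : ((j.rev : Fin r) : ℕ) + 1 = r - (j : ℕ) := by
      rw [Fin.val_rev]; omega
    simp only [hcoeff, gen, c, hrev, map_mul, map_pow, map_neg, map_one, mul_sub]
  have hI : Groth.Agent.H61.SplitAlg.ideal c = Ideal.span (Set.range gen) := by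
    apply le_antisymm <;> rw [Groth.Agent.H61.SplitAlg.ideal, Ideal.span_le, Set.range_subset_iff]
    · intro j
      rw [hgen]
      exact Ideal.mul_mem_left _ _ (Ideal.subset_span ⟨_, rfl⟩)
    · intro i
      have hu : IsUnit (MvPolynomial.C ((-1 : R) ^ (r - (i.rev : ℕ))) : MvPolynomial (Fin r) R) :=
        ((isUnit_one.neg).pow _).map MvPolynomial.C
      rw [SetLike.mem_coe, ← Ideal.unit_mul_mem_iff_mem _ hu]
      refine Ideal.subset_span ⟨i.rev, ?_⟩
      simp only [hgen, Fin.rev_rev]
  obtain ⟨b, hb⟩ := stair_basis r c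
  refine ⟨b.map (Ideal.quotientEquivAlgOfEq R hI).toLinearEquiv, fun k => ?_⟩
  rw [Module.Basis.map_apply, hb]
  rfl

/-- Congruences modulo `I + J[t]` are read off on the staircase coordinates. -/
theorem repr_mem_iff {R : Type u} [CommRing R] {r : ℕ} {I : Ideal (MvPolynomial (Fin r) R)} {ι : Type*} [Fintype ι]
    (b : Module.Basis ι R (MvPolynomial (Fin r) R ⧸ I)) (J : Ideal R) (x : MvPolynomial (Fin r) R) :
    x ∈ I ⊔ Ideal.map (MvPolynomial.C : R →+* MvPolynomial (Fin r) R) J ↔
      ∀ i, b.repr (Ideal.Quotient.mk I x) i ∈ J := by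
  have h1 : x ∈ I ⊔ Ideal.map (MvPolynomial.C : R →+* MvPolynomial (Fin r) R) J ↔
      Ideal.Quotient.mk I x ∈ (J • (⊤ : Submodule R (MvPolynomial (Fin r) R ⧸ I))) := by
    rw [Ideal.smul_top_eq_map, Submodule.restrictScalars_mem, sup_comm, ← Ideal.mem_quotient_iff_mem_sup,
      Ideal.map_map]
    rfl
  rw [h1]
  constructor
  · intro h i
    refine Submodule.smul_induction_on h (fun j hj m _ => ?_) (fun y z hy hz => ?_)
    · rw [map_smul, Finsupp.smul_apply, smul_eq_mul]
      exact Ideal.mul_mem_right _ _ hj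
    · rw [map_add, Finsupp.add_apply]
      exact add_mem hy hz
  · intro h
    rw [← b.sum_repr (Ideal.Quotient.mk I x)]
    exact sum_mem fun i _ => Submodule.smul_mem_smul (h i) trivial

theorem mk_sum_eq {R : Type u} [CommRing R] {r : ℕ} {I : Ideal (MvPolynomial (Fin r) R)}
    (b : Module.Basis (Π i : Fin r, Fin (r - (i : ℕ))) R (MvPolynomial (Fin r) R ⧸ I))
    (hb : ∀ d, b d = Ideal.Quotient.mk _ (∏ i, MvPolynomial.X i ^ (d i : ℕ)))
    (α : (Π i : Fin r, Fin (r - (i : ℕ))) → R) :
    Ideal.Quotient.mk I (∑ d : (Π i : Fin r, Fin (r - (i : ℕ))),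
      MvPolynomial.C (α d) * ∏ i : Fin r, MvPolynomial.X i ^ ((d i : ℕ))) = ∑ d, α d • b d := by
  rw [map_sum]
  refine Finset.sum_congr rfl fun d _ => ?_
  rw [map_mul, hb]
  exact (Algebra.smul_def (α d) (Ideal.Quotient.mk I (∏ i, MvPolynomial.X i ^ (d i : ℕ)))).symm

end Groth.Agent.Lib.SymBasis
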